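import Groth.Agent.S0503
import Mathlib

/-!
# Finite parts over a henselian local ring
-/

set_option autoImplicit false
set_option linter.style.haveILetI false

universe u

open CategoryTheory AlgebraicGeometry

namespace Groth.Agent.Hensel93

variable {R : Type u} [CommRing R] [HenselianLocalRing R] {X : Scheme.{u}} (f : X ⟶ Spec (CommRingCat.of R))
  [LocallyQuasiFinite f] [LocallyOfFiniteType f]

/-- Inside an affine open, an open subscheme finite over the base containing the closed fibre. -/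
theorem exists_finitePart_affine {V : X.Opens} (hV : IsAffineOpen V) :
    ∃ W : X.Opens, W ≤ V ∧ IsFinite (W.ι ≫ f) ∧ ∀ x ∈ V, f.base x = IsLocalRing.closedPoint R → x ∈ W := by
  obtain ⟨φ, hφ⟩ := Spec.map_surjective (hV.fromSpec ≫ f)
  haveI h1 : LocallyQuasiFinite (Spec.map φ) := by rw [hφ]; infer_instance
  haveI h2 : LocallyOfFiniteType (Spec.map φ) := by rw [hφ]; infer_instance
  algebraize [φ.hom]
  haveI : Algebra.QuasiFinite R Γ(X, V) := (HasRingHomProperty.Spec_iff (P := @LocallyQuasiFinite)).1 h1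
  haveI : Algebra.FiniteType R Γ(X, V) := (HasRingHomProperty.Spec_iff (P := @LocallyOfFiniteType)).1 h2
  obtain ⟨e, he, hfin, htop⟩ := S0503.result R Γ(X, V)
  let q : CommRingCat.of Γ(X, V) ⟶ CommRingCat.of (Γ(X, V) ⧸ Ideal.span ({1 - e} : Set Γ(X, V))) :=
    CommRingCat.ofHom (Ideal.Quotient.mk _)
  haveI : IsOpenImmersion (Spec.map q) :=
    (isOpenImmersion_SpecMap_iff_of_surjective q Ideal.Quotient.mk_surjective).2 ⟨1 - e, he.one_sub, Ideal.mk_ker⟩
  let j := Spec.map q ≫ hV.fromSpec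
  have hjf : j ≫ f = Spec.map (φ ≫ q) := by rw [Category.assoc, ← hφ, ← Spec.map_comp]
  haveI : IsFinite (j ≫ f) := by
    rw [hjf, IsFinite.SpecMap_iff, RingHom.Finite]
    exact hfin
  refine ⟨j.opensRange, ?_, ?_, fun x hx hcl => ?_⟩
  · rintro x ⟨y, rfl⟩
    exact hV.range_fromSpec.le ⟨(Spec.map q).base y, rfl⟩
  · rw [show j.opensRange.ι ≫ f = j.isoOpensRange.inv ≫ j ≫ f by rw [← Category.assoc, Scheme.Hom.isoOpensRange_inv_comp]]
    infer_instance
  · obtain ⟨p, rfl⟩ := hV.range_fromSpec.ge hx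
    rw [← Scheme.Hom.comp_apply, ← hφ] at hcl
    have hmem : ∀ r ∈ IsLocalRing.maximalIdeal R, algebraMap R Γ(X, V) r ∈ p.asIdeal := fun r hr =>
      (congrArg PrimeSpectrum.asIdeal hcl).ge hr
    have hep : e ∉ p.asIdeal := fun hc => by
      let ψ : Γ(X, V) ⧸ Ideal.span ({e} : Set Γ(X, V)) →+* Γ(X, V) ⧸ p.asIdeal :=
        Ideal.Quotient.factor (by rwa [Ideal.span_singleton_le_iff_mem])
      have h3 : Ideal.map (algebraMap R (Γ(X, V) ⧸ Ideal.span ({e} : Set Γ(X, V)))) (IsLocalRing.maximalIdeal R) ≤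
          RingHom.ker ψ := by
        refine Ideal.map_le_iff_le_comap.2 fun r hr => ?_
        exact Ideal.Quotient.eq_zero_iff_mem.2 (hmem r hr)
      rw [htop] at h3
      have h4 := h3 (Submodule.mem_top (x := (1 : Γ(X, V) ⧸ Ideal.span ({e} : Set Γ(X, V)))))
      rw [RingHom.mem_ker, map_one] at h4
      haveI : Nontrivial (Γ(X, V) ⧸ p.asIdeal) := Ideal.Quotient.nontrivial_iff.2 p.2.ne_top
      exact one_ne_zero h4
    have h1e : 1 - e ∈ p.asIdeal := (p.2.mem_or_mem (x := e) (by rw [mul_sub, mul_one, he.eq, sub_self]; exact zero_mem _)).resolve_left hep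
    obtain ⟨y, hy⟩ : p ∈ Set.range (Spec.map q).base := by
      refine (_root_.range_comap_of_surjective _ q.hom Ideal.Quotient.mk_surjective).ge ?_
      show RingHom.ker (Ideal.Quotient.mk (Ideal.span ({1 - e} : Set Γ(X, V)))) ≤ p.asIdeal
      exact (Ideal.mk_ker (I := Ideal.span ({1 - e} : Set Γ(X, V)))).le.trans
        ((Ideal.span_singleton_le_iff_mem _).2 h1e)
    exact ⟨y, by rw [← hy]; rfl⟩

end Groth.Agent.Hensel93
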