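import Groth.Agent.E4Loc.Galois
import Groth.Agent.EssEtLib.LocalHom
import Mathlib

/-!
# Galois finite étale local algebras inside a strict henselization
-/

set_option autoImplicit false
set_option linter.style.haveILetI false
set_option linter.unusedSectionVars false

universe u

open IsLocalRing

namespace Groth.Agent.Hensel93

/-- Finitely many elements of a strict henselization of a henselian local ring lie in the image of a finite étale
local algebra whose homomorphisms to a field differ by automorphisms. -/
theorem exists_galois_cover (A S : Type u) [CommRing A] [HenselianLocalRing A] [CommRing S] [IsLocalRing S]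
    [Algebra A S] [IsLocalHom (algebraMap A S)] [Hensel.IsStrictHenselization A S] (s : Finset S) :
    ∃ (F : Type u) (_ : CommRing F) (_ : IsLocalRing F) (_ : Algebra A F) (_ : IsLocalHom (algebraMap A F)),
      Module.Finite A F ∧ Algebra.Etale A F ∧ EGA4loc.IsEssentiallyEtale A F ∧
        ∃ ψ : F →ₐ[A] S, IsLocalHom ψ.toRingHom ∧ Function.Injective ψ ∧ (∀ x ∈ s, x ∈ Set.range ψ) ∧
          ∀ (Ω : Type u) [Field Ω] [Algebra A Ω] (π h : F →ₐ[A] Ω),
            RingHom.ker π ≤ maximalIdeal F → ∃ σ : F →ₐ[A] F, π.comp σ = h := by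
  classical
  haveI := S0539.result A S
  haveI : HenselianLocalRing S := Hensel.IsStrictHenselization.henselian (R := A)
  obtain ⟨E₀, hsub, _, hE₀S, hE₀⟩ := E4Loc.exists_subalgebra A S s
  haveI := hE₀S
  haveI := EssEtLib.isLocalHom_algebraMap hE₀
  haveI := EtAlg7.formallyUnramified hE₀
  haveI := EtAlg7.essFiniteType hE₀
  let k := ResidueField A
  let kS := ResidueField S
  haveI := Hensel.IsStrictHenselization.isSepClosure (R := A) (S := S)
  haveI : IsGalois k kS := IsSepClosure.isGalois
  let ι₀ : ResidueField E₀ →ₐ[k] kS :=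
    { ResidueField.map (algebraMap E₀ S) with
      commutes' := fun r => by
        obtain ⟨a, rfl⟩ := residue_surjective r
        show ResidueField.map (algebraMap E₀ S) (ResidueField.map (algebraMap A E₀) (residue A a)) =
          ResidueField.map (algebraMap A S) (residue A a)
        rw [ResidueField.map_residue, ResidueField.map_residue, ResidueField.map_residue,
          ← IsScalarTower.algebraMap_apply] }
  haveI : Module.Finite k (ResidueField E₀) := inferInstance
  let l₀ : IntermediateField k kS := ι₀.fieldRange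
  haveI : FiniteDimensional k l₀ := Module.Finite.equiv (AlgEquiv.ofInjectiveField ι₀).toLinearEquiv
  let l : IntermediateField k kS := IntermediateField.normalClosure k l₀ kS
  haveI : FiniteDimensional k l := inferInstance
  haveI : IsGalois k l := inferInstance
  have hl₀ : ∀ x, ι₀ x ∈ l := fun x => l₀.le_normalClosure ⟨x, rfl⟩
  obtain ⟨F, _, _, _, _, hfin, het, ⟨eF⟩⟩ := Hensel.exists_finite_etale_residueField A l
  haveI := hfin
  haveI := het
  have hF : EGA4loc.IsEssentiallyEtale A F := E4Loc.isEssentiallyEtale_of_etale F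
  haveI : HenselianLocalRing F := Hensel.henselianLocalRing_of_finite A F
  have hcompat : ∀ (C : Type u) [CommRing C] [IsLocalRing C] [Algebra A C] [IsLocalHom (algebraMap A C)]
      (B : Type u) [CommRing B] [IsLocalRing B] [Algebra A B] [IsLocalHom (algebraMap A B)]
      (f : ResidueField C →ₐ[k] ResidueField B) (a : A),
      f.toRingHom (residue C (algebraMap A C a)) = residue B (algebraMap A B a) := by
    intro C _ _ _ _ B _ _ _ _ f a
    have h := f.commutes (residue A a)
    rw [← ResidueField.map_residue (algebraMap A C), ← ResidueField.map_residue (algebraMap A B)]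
    exact h
  obtain ⟨ψ, hψ, -⟩ := EtAlg7.existsUnique_algHom hF (B := S) (l.val.comp eF.toAlgHom).toRingHom
    (hcompat F S (l.val.comp eF.toAlgHom))
  haveI hψl : IsLocalHom ψ.toRingHom := S17977.result A F hF S ψ
  haveI := EtAlg7.formallyUnramified hF
  haveI := EtAlg7.essFiniteType hF
  have hψinj : Function.Injective ψ := E4Loc.injective_algHom ψ
  obtain ⟨φ₀, hφ₀, -⟩ := EtAlg7.existsUnique_algHom hE₀ (B := F)
    (eF.symm.toAlgHom.comp (ι₀.codRestrict l.toSubalgebra hl₀)).toRingHom
    (hcompat E₀ F (eF.symm.toAlgHom.comp (ι₀.codRestrict l.toSubalgebra hl₀)))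
  have hE₀F : ∀ e : E₀, (e : S) = ψ (φ₀ e) := by
    have h := EtAlg7.algHom_ext_residue hE₀ (T := S) E₀.val (ψ.comp φ₀) fun e => by
      show residue S (e : S) = residue S (ψ (φ₀ e))
      rw [hψ, hφ₀]
      show ι₀ (residue E₀ e) = ((eF (eF.symm (ι₀.codRestrict l.toSubalgebra hl₀ (residue E₀ e)))) : kS)
      rw [AlgEquiv.apply_symm_apply]
      rfl
    exact fun e => congr($h e)
  refine ⟨F, inferInstance, inferInstance, inferInstance, inferInstance, hfin, het, hF, ψ, hψl, hψinj,
    fun x hx => ⟨φ₀ ⟨x, hsub hx⟩, (hE₀F ⟨x, hsub hx⟩).symm⟩, fun Ω _ _ π h hπ => ?_⟩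
  -- automorphisms lifting those of the residue field
  choose τ hτ _hτ' using fun σ : l ≃ₐ[k] l => EtAlg7.existsUnique_algHom hF (B := F)
    ((eF.symm.toAlgHom.comp σ.toAlgHom).comp eF.toAlgHom).toRingHom
    (hcompat F F ((eF.symm.toAlgHom.comp σ.toAlgHom).comp eF.toAlgHom))
  have hτr : ∀ σ x, residue F (τ σ x) = eF.symm (σ (eF (residue F x))) := fun σ x => hτ σ x
  have hinj : Function.Injective fun σ => π.comp (τ σ) := fun σ σ' he => by
    refine AlgEquiv.ext fun y => ?_
    obtain ⟨x, hx⟩ := residue_surjective (eF.symm y)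
    have h1 : residue F (τ σ x) = residue F (τ σ' x) :=
      Ideal.Quotient.eq.2 (hπ (by
        rw [RingHom.mem_ker, map_sub, sub_eq_zero]
        exact DFunLike.congr_fun he x))
    rw [hτr, hτr, hx, AlgEquiv.apply_symm_apply] at h1
    exact eF.symm.injective h1
  haveI : Module.Free A F := Module.free_of_flat_of_isLocalRing
  have hcard : Nat.card (F →ₐ[A] Ω) ≤ Nat.card (l ≃ₐ[k] l) :=
    (card_algHom_le_finrank A F Ω).trans_eq (by
      rw [IsGalois.card_aut_eq_finrank, ← E4Loc.finrank_residueField, eF.toLinearEquiv.finrank_eq])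
  have hbij : Function.Bijective fun σ => π.comp (τ σ) :=
    hinj.bijective_of_nat_card_le hcard
  obtain ⟨σ, hσ⟩ := hbij.2 h
  exact ⟨τ σ, hσ⟩

end Groth.Agent.Hensel93
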