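import Groth.Agent.Hensel93.GaloisCover
import Groth.Agent.S0540
import Groth.Agent.Hensel.IntegralStrict
import Mathlib

/-!
# Intermediate fields meet a quotient of a strict henselization in unramified finite algebras
-/

set_option autoImplicit false
set_option linter.style.haveILetI false
set_option linter.unusedSectionVars false

noncomputable section

universe u

open IsLocalRing TensorProduct

namespace Groth.Agent.Hensel93

theorem map_comap_eq_of_subset_range {F S : Type u} [CommRing F] [CommRing S] (ψ : F →+* S) (Q : Ideal S)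
    (G : Finset S) (hG : Ideal.span (G : Set S) = Q) (hsub : ∀ x ∈ G, x ∈ Set.range ψ) :
    Q = (Q.comap ψ).map ψ := by
  refine le_antisymm ?_ Ideal.map_comap_le
  conv_lhs => rw [← hG]
  refine Ideal.span_le.2 fun x hx => ?_
  obtain ⟨f, rfl⟩ := hsub x hx
  exact Ideal.mem_map_of_mem ψ (show ψ f ∈ Q from hG ▸ Ideal.subset_span hx)

/-- Division inside a faithfully flat extension modulo an extended prime. -/
theorem exists_sub_mem_of_mul_sub_mem {F S : Type u} [CommRing F] [CommRing S] [Algebra F S]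
    [Module.FaithfullyFlat F S] (Q : Ideal S) [Q.IsPrime]
    (hQ : Q = (Q.comap (algebraMap F S)).map (algebraMap F S)) {x : S} {e f : F} (hf : algebraMap F S f ∉ Q)
    (h : x * algebraMap F S f - algebraMap F S e ∈ Q) : ∃ c : F, algebraMap F S c - x ∈ Q := by
  have he : algebraMap F S e ∈ (Ideal.span {f} ⊔ Q.comap (algebraMap F S)).map (algebraMap F S) := by
    rw [Ideal.map_sup, ← hQ, Ideal.map_span, Set.image_singleton]
    refine Submodule.mem_sup.2 ⟨x * algebraMap F S f, Ideal.mul_mem_left _ _ (Ideal.mem_span_singleton_self _),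
      -(x * algebraMap F S f - algebraMap F S e), Q.neg_mem h, by ring⟩
  rw [← Ideal.mem_comap, Ideal.comap_map_eq_self_of_faithfullyFlat] at he
  obtain ⟨y, hy, q, hq, hyq⟩ := Submodule.mem_sup.1 he
  obtain ⟨c, rfl⟩ := Ideal.mem_span_singleton'.1 hy
  refine ⟨c, (‹Q.IsPrime›.mem_or_mem (y := algebraMap F S f) ?_).resolve_right hf⟩
  have : (algebraMap F S c - x) * algebraMap F S f =
      -(x * algebraMap F S f - algebraMap F S e) - algebraMap F S q := by
    rw [← hyq, map_add, map_mul]; ring
  rw [this]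
  exact sub_mem (Q.neg_mem h) hq

section Frac

variable {A F : Type u} [CommRing A] [CommRing F] [Algebra A F] {K : Type u} [Field K] [Algebra A K]

theorem mem_closure_range (π : F →ₐ[A] K) (t : Set K) (ht : t ⊆ Subfield.closure (Set.range π)) {x : K}
    (hx : x ∈ Subfield.closure (Set.range (algebraMap A K) ∪ t)) : ∃ e f : F, π f ≠ 0 ∧ x * π f = π e := by
  have hle : Subfield.closure (Set.range (algebraMap A K) ∪ t) ≤ Subfield.closure (π.toRingHom.range : Set K) := by
    refine Subfield.closure_le.2 (Set.union_subset ?_ ht)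
    rintro _ ⟨a, rfl⟩
    exact Subfield.subset_closure ⟨algebraMap A F a, π.commutes a⟩
  obtain ⟨y, hy, z, hz, rfl⟩ := Subfield.mem_closure_iff.1 (hle hx)
  rw [Subring.closure_eq] at hy hz
  obtain ⟨e, rfl⟩ := hy
  obtain ⟨f, rfl⟩ := hz
  show ∃ e' f' : F, π f' ≠ 0 ∧ π e / π f * π f' = π e'
  rcases eq_or_ne (π f) 0 with h0 | h0
  · refine ⟨0, 1, by rw [map_one]; exact one_ne_zero, ?_⟩
    rw [h0, div_zero, zero_mul, map_zero]
  · exact ⟨e, f, h0, div_mul_cancel₀ _ h0⟩

end Frac

section Trace

theorem exists_trace {A F : Type u} [CommRing A] [IsLocalRing A] [CommRing F] [IsLocalRing F] [Algebra A F]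
    [IsLocalHom (algebraMap A F)]
    [Module.Finite A F] [Algebra.FormallyUnramified A F] {L K : Type u} [Field L] [Field K] [Algebra L K] [Algebra A L]
    [Algebra A K] [IsScalarTower A L K] (hF : EGA4loc.IsEssentiallyEtale A F) (π : F →ₐ[A] K)
    (haut : ∀ (Ω : Type u) [Field Ω] [Algebra A Ω] (π h : F →ₐ[A] Ω),
      RingHom.ker π ≤ maximalIdeal F → ∃ σ : F →ₐ[A] F, π.comp σ = h) :
    ∃ T : F →ₗ[A] F, (∀ g, ∃ c : L, algebraMap L K c = π (T g)) ∧
      (∀ (l : L) (a b : F), π a = algebraMap L K l * π b → π (T a) = algebraMap L K l * π (T b)) ∧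
      (∀ f, π f ≠ 0 → ∃ x, π (T (f * x)) ≠ 0) ∧ ∃ g₀, IsUnit (T g₀) := by
  classical
  let Φ : L ⊗[A] F →ₐ[L] K := Algebra.TensorProduct.lift (Algebra.ofId L K) π fun _ _ => Commute.all _ _
  have hΦF : ∀ (l : L) (g : F), Φ (l ⊗ₜ g) = algebraMap L K l * π g := fun l g => by simp [Φ]
  haveI hfin' : Module.Finite L Φ.range := Module.Finite.range Φ.toLinearMap
  haveI : Algebra.IsIntegral L Φ.range := Algebra.IsIntegral.of_finite L Φ.range
  have hfield : IsField Φ.range := isField_of_isIntegral_of_isField' (Field.toIsField L)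
  let M : IntermediateField L K := Φ.range.toIntermediateField' hfield
  haveI : FiniteDimensional L M := hfin'
  let χM : L ⊗[A] F →ₐ[L] M := Φ.rangeRestrict
  have hχsurj : Function.Surjective χM := Φ.rangeRestrict_surjective
  haveI : Algebra.FormallyUnramified L M := Algebra.FormallyUnramified.of_surjective χM hχsurj
  haveI : Algebra.IsSeparable L M := (Algebra.FormallyUnramified.iff_isSeparable (K := L) M).1 inferInstance
  let Ω := AlgebraicClosure K
  let πM : F → M := fun g => χM (1 ⊗ₜ g)
  have hπM : ∀ g, (πM g : K) = π g := fun g => by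
    show Φ (1 ⊗ₜ g) = _
    rw [hΦF, map_one, one_mul]
  have hχ : ∀ l g, χM (l ⊗ₜ g) = l • πM g := fun l g => by
    rw [← map_smul, TensorProduct.smul_tmul', smul_eq_mul, mul_one]
  let π' : F →ₐ[A] M :=
    { toFun := πM
      map_one' := Subtype.ext ((hπM 1).trans (map_one π))
      map_mul' := fun x y => Subtype.ext (by
        show (πM (x * y) : K) = (πM x : K) * (πM y : K)
        rw [hπM, hπM, hπM, map_mul])
      map_zero' := Subtype.ext ((hπM 0).trans (map_zero π))
      map_add' := fun x y => Subtype.ext (by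
        show (πM (x + y) : K) = (πM x : K) + (πM y : K)
        rw [hπM, hπM, hπM, map_add])
      commutes' := fun a => Subtype.ext ((hπM _).trans (by
        rw [π.commutes]
        rfl)) }
  have hhom : ∀ h : M →ₐ[L] Ω, ∃ σ : F →ₐ[A] F, ∀ g : F, algebraMap K Ω (π (σ g)) = h (πM g) := by
    intro h
    obtain ⟨σ, hσ⟩ := haut Ω ((IsScalarTower.toAlgHom A K Ω).comp π) ((h.restrictScalars A).comp π')
      (IsLocalRing.le_maximalIdeal (RingHom.ker_ne_top _))
    exact ⟨σ, fun g => DFunLike.congr_fun hσ g⟩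
  choose σ hσ using hhom
  let T : F →ₗ[A] F := ∑ h : M →ₐ[L] Ω, (σ h).toLinearMap
  have hT : ∀ g, π (T g) = algebraMap L K (Algebra.trace L M (πM g)) := fun g => by
    refine (algebraMap K Ω).injective ?_
    rw [← IsScalarTower.algebraMap_apply L K Ω, trace_eq_sum_embeddings]
    simp only [T, LinearMap.sum_apply, map_sum, AlgHom.toLinearMap_apply]
    exact Finset.sum_congr rfl fun h _ => hσ h g
  have hlin : ∀ (l : L) (a b : F), π a = algebraMap L K l * π b → πM a = l • πM b := fun l a b h => Subtype.ext (by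
    rw [IntermediateField.coe_smul, hπM, hπM, h, Algebra.smul_def])
  obtain ⟨g₀, hg₀⟩ : ∃ g₀, IsUnit (T g₀) := by
    by_contra hc
    push Not at hc
    let χ : (M →ₐ[L] Ω) → (F →* ResidueField F) := fun h => ((residue F).comp (σ h).toRingHom).toMonoidHom
    have hinj : Function.Injective χ := fun h h' he => by
      have h1 : σ h = σ h' := EtAlg7.algHom_ext_residue hF _ _ fun x => DFunLike.congr_fun he x
      refine AlgHom.ext fun m => ?_
      obtain ⟨z, rfl⟩ := hχsurj m
      induction z using TensorProduct.induction_on with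
      | zero => rw [map_zero, map_zero, map_zero]
      | tmul l g => rw [hχ, map_smul, map_smul, ← hσ, ← hσ, h1]
      | add x y hx hy => rw [map_add, map_add, map_add, hx, hy]
    obtain ⟨h₀⟩ : Nonempty (M →ₐ[L] Ω) := ⟨(IsScalarTower.toAlgHom L K Ω).comp M.val⟩
    have hzero : ∑ h : M →ₐ[L] Ω, (1 : ResidueField F) • (χ h : F → ResidueField F) = 0 := by
      funext g
      simp only [Finset.sum_apply, one_smul, Pi.zero_apply]
      have h2 := (residue_eq_zero_iff (T g)).2 (hc g)
      simp only [T, LinearMap.sum_apply, map_sum] at h2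
      exact h2
    exact one_ne_zero (Fintype.linearIndependent_iff.1
      ((linearIndependent_monoidHom F (ResidueField F)).comp χ hinj) (fun _ => 1) hzero h₀)
  refine ⟨T, fun g => ⟨_, (hT g).symm⟩, fun l a b h => ?_, fun f hf => ?_, g₀, hg₀⟩
  · rw [hT, hT, hlin l a b h, map_smul, smul_eq_mul, map_mul]
  by_contra hc
  push Not at hc
  have hfM : πM f ≠ 0 := fun h => hf (by rw [← hπM, h]; rfl)
  have hz : ∀ m : M, Algebra.trace L M (πM f * m) = 0 := fun m => by
    obtain ⟨z, rfl⟩ := hχsurj m
    induction z using TensorProduct.induction_on with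
    | zero => rw [map_zero, mul_zero, map_zero]
    | tmul c g =>
      rw [hχ, mul_smul_comm, map_smul, show πM f * πM g = πM (f * g) from (map_mul π' f g).symm]
      have h1 : Algebra.trace L M (πM (f * g)) = 0 :=
        (algebraMap L K).injective (by rw [← hT, hc g, map_zero])
      rw [h1, smul_zero]
    | add a b ha hb => rw [map_add, mul_add, map_add, ha, hb, add_zero]
  have h2 := hz ((πM f)⁻¹ * πM g₀)
  rw [← mul_assoc, mul_inv_cancel₀ hfM, one_mul] at h2
  have h3 : π (T g₀) = 0 := by rw [hT, h2, map_zero]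
  exact (hg₀.map π).ne_zero h3

end Trace

variable {A S : Type u} [CommRing A] [CommRing S] [Algebra A S] (Q : Ideal S) [Q.IsPrime]

/-- The field generated over the base by `t`. -/
abbrev genField (A : Type u) [CommRing A] [Algebra A S] (t : Set (FractionRing (S ⧸ Q))) :
    Subfield (FractionRing (S ⧸ Q)) :=
  Subfield.closure (Set.range (algebraMap A (FractionRing (S ⧸ Q))) ∪ t)

/-- The intersection of that field with the quotient. -/
def interAlg (A : Type u) [CommRing A] [Algebra A S] (t : Set (FractionRing (S ⧸ Q))) : Subalgebra A (S ⧸ Q) where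
  carrier := (algebraMap (S ⧸ Q) (FractionRing (S ⧸ Q))) ⁻¹' (genField Q A t : Set (FractionRing (S ⧸ Q)))
  mul_mem' := fun {x y} hx hy => by
    rw [Set.mem_preimage, map_mul]; exact (genField Q A t).mul_mem hx hy
  add_mem' := fun {x y} hx hy => by
    rw [Set.mem_preimage, map_add]; exact (genField Q A t).add_mem hx hy
  algebraMap_mem' := fun a => by
    rw [Set.mem_preimage, ← IsScalarTower.algebraMap_apply]
    exact Subfield.subset_closure (Or.inl ⟨a, rfl⟩)

end Groth.Agent.Hensel93

namespace Groth.Agent.Hensel93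

variable (A S : Type u) [CommRing A] [HenselianLocalRing A] [IsNoetherianRing A] [CommRing S] [IsLocalRing S]
  [Algebra A S] [IsLocalHom (algebraMap A S)] [Hensel.IsStrictHenselization A S] (Q : Ideal S) [hQ : Q.IsPrime]
  (t : Finset (FractionRing (S ⧸ Q)))

/-- Representatives for `t`, and generators of `Q`. -/
theorem exists_reps (A S : Type u) [CommRing A] [HenselianLocalRing A] [IsNoetherianRing A] [CommRing S]
    [IsLocalRing S] [Algebra A S] [IsLocalHom (algebraMap A S)] [Hensel.IsStrictHenselization A S] (Q : Ideal S)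
    [Q.IsPrime] (t : Finset (FractionRing (S ⧸ Q))) : ∃ s : Finset S, ∃ G : Finset S, G ⊆ s ∧ Ideal.span (G : Set S) = Q ∧
    ∀ z ∈ t, ∃ a ∈ s, ∃ b ∈ s, z = algebraMap (S ⧸ Q) (FractionRing (S ⧸ Q)) (Ideal.Quotient.mk Q a) /
      algebraMap (S ⧸ Q) (FractionRing (S ⧸ Q)) (Ideal.Quotient.mk Q b) := by
  classical
  haveI : IsNoetherianRing S := (S0540.result A S).1 inferInstance
  obtain ⟨G, hG⟩ := IsNoetherian.noetherian Q
  have hex : ∀ z : FractionRing (S ⧸ Q), ∃ a b : S,
      z = algebraMap (S ⧸ Q) (FractionRing (S ⧸ Q)) (Ideal.Quotient.mk Q a) /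
        algebraMap (S ⧸ Q) (FractionRing (S ⧸ Q)) (Ideal.Quotient.mk Q b) := fun z => by
    obtain ⟨x, y, -, rfl⟩ := IsFractionRing.div_surjective (A := S ⧸ Q) z
    obtain ⟨a, rfl⟩ := Ideal.Quotient.mk_surjective x
    obtain ⟨b, rfl⟩ := Ideal.Quotient.mk_surjective y
    exact ⟨a, b, rfl⟩
  choose num den hnd using hex
  refine ⟨G ∪ t.image num ∪ t.image den, G, fun x hx => Finset.mem_union_left _ (Finset.mem_union_left _ hx), hG,
    fun z hz => ⟨num z, ?_, den z, ?_, hnd z⟩⟩
  · exact Finset.mem_union_left _ (Finset.mem_union_right _ (Finset.mem_image_of_mem _ hz))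
  · exact Finset.mem_union_right _ (Finset.mem_image_of_mem _ hz)

set_option maxHeartbeats 1600000 in
theorem interAlg_spec :
    Module.Finite A (interAlg Q A (t : Set (FractionRing (S ⧸ Q)))) ∧
      Algebra.FormallyUnramified A (interAlg Q A (t : Set (FractionRing (S ⧸ Q)))) ∧
      IsLocalRing (interAlg Q A (t : Set (FractionRing (S ⧸ Q)))) ∧
      ∀ l ∈ genField Q A (t : Set (FractionRing (S ⧸ Q))),
        ∃ a ∈ interAlg Q A (t : Set (FractionRing (S ⧸ Q))), ∃ b ∈ interAlg Q A (t : Set (FractionRing (S ⧸ Q))),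
          algebraMap (S ⧸ Q) (FractionRing (S ⧸ Q)) b ≠ 0 ∧
            l * algebraMap (S ⧸ Q) (FractionRing (S ⧸ Q)) b = algebraMap (S ⧸ Q) (FractionRing (S ⧸ Q)) a := by
  classical
  haveI := S0539.result A S
  obtain ⟨s, G, hGs, hG, hts⟩ := exists_reps A S Q t
  obtain ⟨F, _, _, _, _, _, _, hF, ψ, hψl, -, hs, haut⟩ := exists_galois_cover A S s
  haveI := EtAlg7.formallyUnramified hF
  haveI := EtAlg7.essFiniteType hF
  letI : Algebra F S := ψ.toRingHom.toAlgebra
  haveI : IsScalarTower A F S := .of_algebraMap_eq fun a => (ψ.commutes a).symm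
  haveI : IsLocalHom (algebraMap F S) := hψl
  haveI := E4Loc.faithfullyFlat_of_unramified (A := A) (E := F) (T := S)
  have hQext : Q = (Q.comap (algebraMap F S)).map (algebraMap F S) :=
    map_comap_eq_of_subset_range (algebraMap F S) Q G hG fun x hx => hs x (hGs hx)
  set L := genField Q A (t : Set (FractionRing (S ⧸ Q))) with hL
  let K := FractionRing (S ⧸ Q)
  let π₁ : F →ₐ[A] (S ⧸ Q) := (Ideal.Quotient.mkₐ A Q).comp ψ
  let π : F →ₐ[A] K := (IsScalarTower.toAlgHom A (S ⧸ Q) K).comp π₁
  have hπker : ∀ f, π f = 0 ↔ algebraMap F S f ∈ Q := fun f => by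
    refine (map_eq_zero_iff _ (IsFractionRing.injective (S ⧸ Q) K)).trans ?_
    exact Ideal.Quotient.eq_zero_iff_mem
  have hgen : (t : Set K) ⊆ Subfield.closure (Set.range π) := fun z hz => by
    obtain ⟨a, ha, b, hb, rfl⟩ := hts z hz
    obtain ⟨a', rfl⟩ := hs a ha
    obtain ⟨b', rfl⟩ := hs b hb
    exact div_mem (Subfield.subset_closure ⟨a', rfl⟩) (Subfield.subset_closure ⟨b', rfl⟩)
  -- the intersection lies in the image of `F`
  have hlift : ∀ y ∈ interAlg Q A (t : Set K), ∃ g : F, π₁ g = y := fun y hy => by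
    obtain ⟨x, rfl⟩ := Ideal.Quotient.mk_surjective y
    obtain ⟨e, f, hf, hef⟩ := mem_closure_range π (t : Set K) hgen hy
    have h1 : x * algebraMap F S f - algebraMap F S e ∈ Q := by
      rw [← Ideal.Quotient.eq]
      refine IsFractionRing.injective (S ⧸ Q) K ?_
      rw [map_mul, map_mul]
      exact hef
    obtain ⟨c, hc⟩ := exists_sub_mem_of_mul_sub_mem Q hQext (fun h => hf ((hπker f).2 h)) h1
    exact ⟨c, Ideal.Quotient.eq.2 hc⟩
  -- finiteness
  have hfinD : Module.Finite A (interAlg Q A (t : Set K)) := by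
    haveI : Module.Finite A π₁.toLinearMap.range := Module.Finite.range π₁.toLinearMap
    have hle : Subalgebra.toSubmodule (interAlg Q A (t : Set K)) ≤ π₁.toLinearMap.range := fun y hy => by
      obtain ⟨g, hg⟩ := hlift y hy
      exact ⟨g, hg⟩
    exact Module.Finite.of_injective (Submodule.inclusion hle) (Submodule.inclusion_injective hle)
  -- the trace
  letI : Algebra A L := ((algebraMap A K).codRestrict L fun a => Subfield.subset_closure (Or.inl ⟨a, rfl⟩)).toAlgebra
  haveI : IsScalarTower A L K := .of_algebraMap_eq fun _ => rfl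
  obtain ⟨T, hTL, hTlin, hne, g₀, hg₀⟩ := exists_trace (L := L) hF π haut
  have hTD : ∀ g, π₁ (T g) ∈ interAlg Q A (t : Set K) := fun g => by
    obtain ⟨c, hc⟩ := hTL g
    show π (T g) ∈ L
    rw [← hc]
    exact c.2
  have hTmul : ∀ (l : L) (g g' : F), π g = (l : K) → π (T (g * g')) = (l : K) * π (T g') := fun l g g' hg =>
    hTlin l _ _ (by rw [map_mul, hg]; rfl)
  obtain ⟨u, hu⟩ := hg₀
  have hinj : Function.Injective (algebraMap (S ⧸ Q) K) := IsFractionRing.injective (S ⧸ Q) K
  have huinv : π₁ (↑u⁻¹ : F) ∈ interAlg Q A (t : Set K) := by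
    show π (↑u⁻¹ : F) ∈ L
    have h1 : π (↑u⁻¹ : F) * π (T g₀) = 1 := by rw [← map_mul, ← hu, Units.inv_mul, map_one]
    rw [eq_inv_of_mul_eq_one_left h1]
    exact inv_mem (hTD g₀)
  -- locality
  haveI : Nontrivial (interAlg Q A (t : Set K)) := ⟨0, 1, fun h => zero_ne_one (congrArg Subtype.val h)⟩
  haveI : Algebra.IsIntegral A (interAlg Q A (t : Set K)) := Algebra.IsIntegral.of_finite A _
  haveI : IsDomain (interAlg Q A (t : Set K)) := inferInstance
  haveI hDloc : IsLocalRing (interAlg Q A (t : Set K)) := Groth.Agent.Hensel.isLocalRing_of_isIntegral_domain A _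
  let ρ : (interAlg Q A (t : Set K)) →+* ResidueField S :=
    (Ideal.Quotient.factor (IsLocalRing.le_maximalIdeal hQ.ne_top)).comp (interAlg Q A (t : Set K)).val.toRingHom
  haveI hρloc : IsLocalHom ρ := ⟨fun y hy => by
    obtain ⟨x, hx⟩ := Ideal.Quotient.mk_surjective (y : S ⧸ Q)
    have hxu : IsUnit x := by
      by_contra hc
      refine not_isUnit_zero ((?_ : ρ y = 0) ▸ hy)
      show Ideal.Quotient.factor (IsLocalRing.le_maximalIdeal hQ.ne_top) (y : S ⧸ Q) = 0
      rw [← hx, Ideal.Quotient.factor_mk]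
      exact Ideal.Quotient.eq_zero_iff_mem.2 ((mem_maximalIdeal x).2 hc)
    obtain ⟨v, hv⟩ := (hxu.map (Ideal.Quotient.mk Q)).exists_right_inv
    rw [hx] at hv
    refine IsUnit.of_mul_eq_one ⟨v, ?_⟩ (Subtype.ext hv)
    show algebraMap (S ⧸ Q) K v ∈ L
    have h1 : algebraMap (S ⧸ Q) K y * algebraMap (S ⧸ Q) K v = 1 := by rw [← map_mul, hv, map_one]
    rw [eq_inv_of_mul_eq_one_right h1]
    exact inv_mem y.2⟩
  haveI hAloc : IsLocalHom (algebraMap A (interAlg Q A (t : Set K))) := ⟨fun a ha => by
    refine IsUnit.of_map (residue A) _ ?_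
    have h1 : IsUnit (residue S (algebraMap A S a)) := ha.map ρ
    exact (isUnit_iff_ne_zero.2 fun h0 => h1.ne_zero (by
      rw [← ResidueField.map_residue, h0, map_zero]))⟩
  refine ⟨hfinD, ?_, hDloc, ?_⟩
  · haveI := hfinD
    haveI : Algebra.EssFiniteType A (interAlg Q A (t : Set K)) := inferInstance
    rw [Algebra.FormallyUnramified.iff_map_maximalIdeal_eq]
    constructor
    · haveI := Hensel.IsStrictHenselization.isSepClosure (R := A) (S := S)
      haveI : Algebra.IsSeparable (ResidueField A) (ResidueField S) :=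
        IsSepClosure.separable (k := ResidueField A)
      let ρ' : ResidueField (interAlg Q A (t : Set K)) →ₐ[ResidueField A] ResidueField S :=
        { IsLocalRing.ResidueField.lift ρ with
          commutes' := fun r => by
            obtain ⟨a, rfl⟩ := residue_surjective r
            show IsLocalRing.ResidueField.lift ρ (ResidueField.map (algebraMap A _) (residue A a)) =
              ResidueField.map (algebraMap A S) (residue A a)
            rw [ResidueField.map_residue, ResidueField.lift_residue_apply, ResidueField.map_residue]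
            rfl }
      exact Algebra.IsSeparable.of_algHom (ResidueField A) (ResidueField S) ρ'
    · refine le_antisymm (Ideal.map_le_iff_le_comap.2 fun a ha => ?_) fun y hy => ?_
      · exact (mem_maximalIdeal _).2 fun h => (mem_maximalIdeal _).1 ha (hAloc.map_nonunit a h)
      obtain ⟨g, hg⟩ := hlift y y.2
      have hgm : g ∈ maximalIdeal F := (mem_maximalIdeal g).2 fun hgu => by
        obtain ⟨v, hv⟩ := hgu.exists_right_inv
        refine (mem_maximalIdeal y).1 hy (hρloc.map_nonunit y ?_)
        refine IsUnit.of_mul_eq_one (Ideal.Quotient.factor (IsLocalRing.le_maximalIdeal hQ.ne_top) (π₁ v)) ?_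
        show Ideal.Quotient.factor (IsLocalRing.le_maximalIdeal hQ.ne_top) (y : S ⧸ Q) *
          Ideal.Quotient.factor (IsLocalRing.le_maximalIdeal hQ.ne_top) (π₁ v) = 1
        rw [← map_mul, ← hg, ← map_mul, hv, map_one, map_one]
      let Θ : F →ₗ[A] (interAlg Q A (t : Set K)) :=
        LinearMap.codRestrict (Subalgebra.toSubmodule (interAlg Q A (t : Set K)))
          (π₁.toLinearMap.comp (T.comp (LinearMap.mulRight A g₀))) fun x => hTD _
      have hΘ : Θ g ∈ Ideal.map (algebraMap A (interAlg Q A (t : Set K))) (maximalIdeal A) := by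
        have hg2 : g ∈ (maximalIdeal A) • (⊤ : Submodule A F) := by
          rw [Ideal.smul_top_eq_map, Algebra.FormallyUnramified.map_maximalIdeal]
          exact hgm
        refine Submodule.smul_induction_on hg2 (fun a ha x _ => ?_) fun x x' hx hx' => ?_
        · rw [map_smul, Algebra.smul_def]
          exact Ideal.mul_mem_right _ _ (Ideal.mem_map_of_mem _ ha)
        · rw [map_add]; exact add_mem hx hx'
      have hyu : y = Θ g * ⟨π₁ (↑u⁻¹ : F), huinv⟩ := by
        refine Subtype.ext (hinj ?_)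
        show algebraMap (S ⧸ Q) K (y : S ⧸ Q) = algebraMap (S ⧸ Q) K (π₁ (T (g * g₀)) * π₁ (↑u⁻¹ : F))
        rw [map_mul]
        show _ = π (T (g * g₀)) * π (↑u⁻¹ : F)
        rw [hTmul ⟨_, y.2⟩ g g₀ (by show algebraMap (S ⧸ Q) K (π₁ g) = _; rw [hg]), mul_assoc, ← map_mul, ← hu,
          Units.mul_inv, map_one, mul_one]
      rw [hyu]
      exact Ideal.mul_mem_right _ _ hΘ
  · intro l hl
    obtain ⟨e, f, hf, hef⟩ := mem_closure_range π (t : Set K) hgen hl
    obtain ⟨x, hx⟩ := hne f hf
    refine ⟨π₁ (T (e * x)), hTD _, π₁ (T (f * x)), hTD _, hx, ?_⟩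
    show l * π (T (f * x)) = π (T (e * x))
    exact (hTlin ⟨l, hl⟩ _ _ (by rw [map_mul, map_mul, ← hef, mul_assoc]; rfl)).symm

end Groth.Agent.Hensel93
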